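import Groth.Agent.AlgSpBasic.Presheaf
import Groth.Agent.AlgSpBasic.AlgSpace
import Groth.Agent.AlgSpBasic.DiagProps

/-!
# Maps of presheaves representable by algebraic spaces: base change, composition, descent to the source
-/

set_option autoImplicit false
set_option backward.isDefEq.respectTransparency.types false

universe u

open CategoryTheory CategoryTheory.Limits AlgebraicGeometry Opposite AlgSp
open Groth.AlgSpBasic

namespace Groth.AlgSpRep

variable {S : Scheme.{u}} {F G H : PSp S}

theorem isAlgSpaceP_pyon (U : Over S) : IsAlgSpaceP ((pyon S).obj U) :=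
  ⟨((yon S).obj U).property, IsAlgSpace.yon_obj U⟩

theorem repBySp_of_relativelyRepresentable {a : F ⟶ G} (ha : (pyon S).relativelyRepresentable a) :
    RepBySp a := by
  intro U ξ F' fst snd sq
  obtain ⟨V, snd', fst', sq'⟩ := ha ξ
  exact (isAlgSpaceP_pyon V).of_iso (sq'.isoIsPullback _ _ sq)

theorem repBySp_of_isPullback {F' G' : PSp S} {a : F ⟶ G} {a' : F' ⟶ G'} {p : F' ⟶ F} {q : G' ⟶ G}
    (sq : IsPullback p a' a q) (ha : RepBySp a) : RepBySp a' :=
  fun _ ξ _ fst snd sq' => ha (ξ ≫ q) (fst ≫ p) snd (sq'.paste_horiz sq)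

theorem isSheaf_of_repBySp (a : F ⟶ G) (ha : RepBySp a) (hG : Presheaf.IsSheaf (J S) G) :
    Presheaf.IsSheaf (J S) F := by
  rw [isSheaf_iff_isSheaf_of_type] at hG ⊢
  intro U R hR x hx
  obtain ⟨y, hy, hyu⟩ := hG R hR (fun V i hi => a.app _ (x i hi)) (hx.map a)
  have sq := IsPullback.of_hasPullback a (pEquiv.symm y)
  obtain ⟨hP, -⟩ := ha _ _ _ sq
  rw [isSheaf_iff_isSheaf_of_type] at hP
  have hY : Presieve.IsSheaf (J S) ((pyon S).obj U) :=
    (isSheaf_iff_isSheaf_of_type _ _).1 ((yon S).obj U).property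
  have hl : ∀ ⦃V : Over S⦄ (i : V ⟶ U) (hi : R i),
      pEquiv.symm (x i hi) ≫ a = (pyon S).map i ≫ pEquiv.symm y := fun V i hi => by
    rw [← pEquiv_symm_app, ← pEquiv_symm_map]
    exact congrArg pEquiv.symm (hy i hi).symm
  let z : Presieve.FamilyOfElements (pullback a (pEquiv.symm y)) R.arrows :=
    fun V i hi => pEquiv (sq.lift _ _ (hl i hi))
  have hz : z.Compatible := by
    intro Y₁ Y₂ Z g₁ g₂ f₁ f₂ h₁ h₂ e
    apply pEquiv.symm.injective
    simp only [z, pEquiv_symm_map, Equiv.symm_apply_apply]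
    apply sq.hom_ext
    · simp only [Category.assoc, IsPullback.lift_fst, ← pEquiv_symm_map]
      exact congrArg pEquiv.symm (hx g₁ g₂ h₁ h₂ e)
    · simp only [Category.assoc, IsPullback.lift_snd, ← Functor.map_comp, e]
  obtain ⟨w, hw, hwu⟩ := hP R hR z hz
  have hw' : ∀ V (i : V ⟶ U) (hi : R i),
      (pyon S).map i ≫ pEquiv.symm w = sq.lift _ _ (hl i hi) := fun V i hi => by
    rw [← pEquiv_symm_map, hw i hi]
    exact pEquiv.symm_apply_apply _
  have hws : pEquiv.symm w ≫ pullback.snd a (pEquiv.symm y) = 𝟙 _ := by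
    apply pEquiv.injective
    refine ((hY.isSeparated R hR) |>.ext fun {V} i hi => ?_)
    apply pEquiv.symm.injective
    rw [pEquiv_symm_map, pEquiv_symm_map, Equiv.symm_apply_apply, Equiv.symm_apply_apply,
      ← Category.assoc, hw' V i hi, sq.lift_snd, Category.comp_id]
  refine ⟨pEquiv (pEquiv.symm w ≫ pullback.fst _ _), fun V i hi => ?_, fun t' ht' => ?_⟩
  · apply pEquiv.symm.injective
    rw [pEquiv_symm_map, Equiv.symm_apply_apply, ← Category.assoc, hw', sq.lift_fst]
  · have hga : a.app (op U) t' = y := hyu _ fun V i hi => by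
      refine (ConcreteCategory.congr_hom (a.naturality i.op) t').symm.trans ?_
      exact congrArg (a.app (op V)) (ht' i hi)
    have e : pEquiv.symm t' ≫ a = 𝟙 _ ≫ pEquiv.symm y := by
      rw [← pEquiv_symm_app, hga, Category.id_comp]
    have hl' : pEquiv (sq.lift _ _ e) = w := hwu _ fun V i hi => by
      apply pEquiv.symm.injective
      rw [pEquiv_symm_map, Equiv.symm_apply_apply]
      show _ = pEquiv.symm (pEquiv _)
      rw [Equiv.symm_apply_apply]
      apply sq.hom_ext
      · rw [Category.assoc, sq.lift_fst, sq.lift_fst, ← pEquiv_symm_map]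
        exact congrArg pEquiv.symm (ht' i hi)
      · rw [Category.assoc, sq.lift_snd, sq.lift_snd, Category.comp_id]
    apply pEquiv.symm.injective
    rw [Equiv.symm_apply_apply, ← hl', Equiv.symm_apply_apply, sq.lift_fst]

/-- Two maps from a scheme with the same image under a map representable by algebraic spaces have a
scheme as equaliser. -/
theorem exists_equalizer {a : F ⟶ G} (ha : RepBySp a) {W : Over S} (σ₁ σ₂ : (pyon S).obj W ⟶ F)
    (e : σ₁ ≫ a = σ₂ ≫ a) :
    ∃ (W' : Over S) (i : W' ⟶ W), (pyon S).map i ≫ σ₁ = (pyon S).map i ≫ σ₂ ∧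
      ∀ ⦃T : PSp S⦄ (k : T ⟶ (pyon S).obj W), k ≫ σ₁ = k ≫ σ₂ →
        ∃! k' : T ⟶ (pyon S).obj W', k' ≫ (pyon S).map i = k := by
  have sq := IsPullback.of_hasPullback a (σ₁ ≫ a)
  obtain ⟨hP, hA⟩ := ha _ _ _ sq
  let s₁ : (yon S).obj W ⟶ (⟨_, hP⟩ : Sp S) :=
    ObjectProperty.homMk (sq.lift σ₁ (𝟙 _) (Category.id_comp _).symm)
  let s₂ : (yon S).obj W ⟶ (⟨_, hP⟩ : Sp S) :=
    ObjectProperty.homMk (sq.lift σ₂ (𝟙 _) (e.symm.trans (Category.id_comp _).symm))
  obtain ⟨W', p, q, sq'⟩ := exists_pullback_of_diag hA.diag s₁ s₂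
  have sq'' : IsPullback ((pyon S).map p) ((pyon S).map q) (sq.lift σ₁ (𝟙 _) (Category.id_comp _).symm)
      (sq.lift σ₂ (𝟙 _) (e.symm.trans (Category.id_comp _).symm)) :=
    sq'.map (sheafToPresheaf (J S) (Type (u + 1)))
  have hpq : p = q := by
    apply (pyon S).map_injective
    have := sq''.w =≫ pullback.snd _ _
    simpa only [Category.assoc, IsPullback.lift_snd, Category.comp_id] using this
  subst hpq
  refine ⟨W', p, ?_, fun T k hk => ?_⟩
  · have := sq''.w =≫ pullback.fst _ _
    simpa only [Category.assoc, IsPullback.lift_fst] using this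
  · refine ⟨sq''.lift k k (sq.hom_ext ?_ ?_), sq''.lift_fst _ _ _, fun m hm => ?_⟩
    · simpa only [Category.assoc, IsPullback.lift_fst] using hk
    · simp only [Category.assoc, IsPullback.lift_snd]
    · apply sq''.hom_ext <;> simp only [IsPullback.lift_fst, IsPullback.lift_snd] <;> exact hm

theorem relativelyRepresentable_diagonal_of_repBySp {a : F ⟶ G} (ha : RepBySp a) :
    (pyon S).relativelyRepresentable (pullback.diagonal a) := by
  intro U g
  obtain ⟨W, i, h₁, h₂⟩ := exists_equalizer ha (g ≫ pullback.fst a a) (g ≫ pullback.snd a a)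
    (by rw [Category.assoc, Category.assoc, pullback.condition])
  choose l hl hu using h₂
  have hc : ∀ c : PullbackCone (pullback.diagonal a) g,
      c.snd ≫ g ≫ pullback.fst a a = c.fst ∧ c.snd ≫ g ≫ pullback.snd a a = c.fst := fun c => by
    have hc₁ := c.condition =≫ pullback.fst a a
    have hc₂ := c.condition =≫ pullback.snd a a
    rw [Category.assoc, pullback.diagonal_fst, Category.comp_id, Category.assoc] at hc₁
    rw [Category.assoc, pullback.diagonal_snd, Category.comp_id, Category.assoc] at hc₂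
    exact ⟨hc₁.symm, hc₂.symm⟩
  refine ⟨W, i, (pyon S).map i ≫ g ≫ pullback.fst a a, ⟨?_⟩,
    ⟨PullbackCone.IsLimit.mk _ (fun c => l c.snd ((hc c).1.trans (hc c).2.symm)) ?_ ?_ ?_⟩⟩
  · apply pullback.hom_ext
    · rw [Category.assoc, pullback.diagonal_fst, Category.comp_id, Category.assoc]
    · rw [Category.assoc, pullback.diagonal_snd, Category.comp_id, Category.assoc, h₁]
  · intro c
    rw [← Category.assoc, hl c.snd ((hc c).1.trans (hc c).2.symm)]
    exact (hc c).1
  · intro c; exact hl c.snd ((hc c).1.trans (hc c).2.symm)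
  · intro c m _ hm
    exact hu c.snd ((hc c).1.trans (hc c).2.symm) m hm

theorem isAlgSpace_of_repBySp_hom {F G : Sp S} (a : F ⟶ G) (ha : RepBySp a.hom) (hG : IsAlgSpace G) :
    IsAlgSpace F := by
  refine ⟨representable_diag_of_exists fun U V x y => ?_, ?_⟩
  · obtain ⟨W, p, q, sq⟩ := exists_pullback_of_diag hG.diag (x ≫ a) (y ≫ a)
    obtain ⟨W', i, h₁, h₂⟩ := exists_equalizer ha (W := W) ((pyon S).map p ≫ x.hom)
      ((pyon S).map q ≫ y.hom) (by
        rw [Category.assoc, Category.assoc]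
        exact congrArg (fun t => t.hom) sq.w)
    have key : ∀ c : PullbackCone x y, ∃ k : c.pt ⟶ (yon S).obj W',
        k ≫ (yon S).map i = sq.lift c.fst c.snd (by rw [← Category.assoc, c.condition, Category.assoc]) := by
      intro c
      have hh : ((sq.lift c.fst c.snd (by rw [← Category.assoc, c.condition, Category.assoc])).hom ≫
            ((pyon S).map p ≫ x.hom))
          = ((sq.lift c.fst c.snd (by rw [← Category.assoc, c.condition, Category.assoc])).hom ≫
            ((pyon S).map q ≫ y.hom)) := by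
        have e := c.condition
        rw [← sq.lift_fst c.fst c.snd (by rw [← Category.assoc, c.condition, Category.assoc])] at e
        rw [Category.assoc] at e
        have e' := congrArg (fun t => t.hom) (e.trans (congrArg (· ≫ y)
          (sq.lift_snd c.fst c.snd (by rw [← Category.assoc, c.condition, Category.assoc])).symm))
        exact e'
      obtain ⟨k, hk, -⟩ := h₂ _ hh
      exact ⟨ObjectProperty.homMk k, ObjectProperty.hom_ext _ hk⟩
    have hi : ∀ {T : Sp S} (m m' : T ⟶ (yon S).obj W'), m ≫ (yon S).map i = m' ≫ (yon S).map i → m = m' := by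
      intro T m m' e
      have e' : m.hom ≫ (pyon S).map i = m'.hom ≫ (pyon S).map i := congrArg (fun t => t.hom) e
      apply ObjectProperty.hom_ext
      exact (h₂ (m'.hom ≫ (pyon S).map i) (by rw [Category.assoc, Category.assoc]; exact congrArg (m'.hom ≫ ·) h₁)).unique e' rfl
    choose k hk using key
    refine ⟨W', i ≫ p, i ≫ q, ⟨?_⟩, ⟨PullbackCone.IsLimit.mk _ k ?_ ?_ ?_⟩⟩
    · apply ObjectProperty.hom_ext
      show ((pyon S).map (i ≫ p)) ≫ x.hom = ((pyon S).map (i ≫ q)) ≫ y.hom
      rw [Functor.map_comp, Functor.map_comp, Category.assoc, Category.assoc]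
      exact h₁
    · intro c
      rw [Functor.map_comp, ← Category.assoc, hk, sq.lift_fst]
    · intro c
      rw [Functor.map_comp, ← Category.assoc, hk, sq.lift_snd]
    · intro c m e₁ e₂
      apply hi
      rw [hk]
      apply sq.hom_ext
      · rw [sq.lift_fst, Category.assoc, ← Functor.map_comp]; exact e₁
      · rw [sq.lift_snd, Category.assoc, ← Functor.map_comp]; exact e₂
  · obtain ⟨V, q, hqe, hqs⟩ := hG.atlas
    have sq := IsPullback.of_hasPullback a q
    obtain ⟨W, r, hre, hrs⟩ := (repBySp_hom_iff a).1 ha q _ _ sq |>.atlas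
    exact ⟨W, r ≫ pullback.fst a q, repWith_comp hre (repWith_of_isPullback sq.flip hqe),
      repWith_comp hrs (repWith_of_isPullback sq.flip hqs)⟩

theorem isAlgSpaceP_of_repBySp (a : F ⟶ G) (ha : RepBySp a) (hG : IsAlgSpaceP G) : IsAlgSpaceP F := by
  obtain ⟨hs, hG⟩ := hG
  have hF := isSheaf_of_repBySp a ha hs
  exact ⟨hF, isAlgSpace_of_repBySp_hom (F := ⟨F, hF⟩) (G := ⟨G, hs⟩) (ObjectProperty.homMk a) ha hG⟩

theorem isAlgSpaceP_pullback {a : F ⟶ G} (ha : RepBySp a) {X F' : PSp S} (hX : IsAlgSpaceP X)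
    {ξ : X ⟶ G} {fst : F' ⟶ X} {snd : F' ⟶ F} (sq : IsPullback fst snd ξ a) : IsAlgSpaceP F' :=
  isAlgSpaceP_of_repBySp fst (repBySp_of_isPullback sq.flip ha) hX

theorem repBySp_comp {a : F ⟶ G} {b : G ⟶ H} (ha : RepBySp a) (hb : RepBySp b) : RepBySp (a ≫ b) := by
  intro U ξ F' fst snd sq
  have sqb := IsPullback.of_hasPullback b ξ
  have sqa : IsPullback fst (sqb.lift (fst ≫ a) snd (by rw [Category.assoc, sq.w])) a (pullback.fst b ξ) :=
    IsPullback.of_bot (by rw [sqb.lift_snd]; exact sq) (sqb.lift_fst _ _ _).symm sqb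
  exact isAlgSpaceP_pullback ha (hb _ _ _ sqb) sqa.flip

theorem repBySp_diagonal {a : F ⟶ G} (ha : RepBySp a) : RepBySp (pullback.diagonal a) :=
  repBySp_of_relativelyRepresentable (relativelyRepresentable_diagonal_of_repBySp ha)

theorem repBySp_prod_map {F₁ G₁ F₂ G₂ : PSp S} {a₁ : F₁ ⟶ G₁} {a₂ : F₂ ⟶ G₂} (h₁ : RepBySp a₁)
    (h₂ : RepBySp a₂) : RepBySp (prod.map a₁ a₂) := by
  have e : prod.map a₁ a₂ = prod.map a₁ (𝟙 F₂) ≫ prod.map (𝟙 G₁) a₂ := by simp
  rw [e]
  exact repBySp_comp (repBySp_of_isPullback (isPullback_prod_map_fst a₁ F₂) h₁)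
    (repBySp_of_isPullback (isPullback_prod_map_snd a₂ G₁) h₂)

theorem repBySp_of_comp {a : F ⟶ G} {b : G ⟶ H} (hΔ : RepBySp (pullback.diagonal b))
    (hab : RepBySp (a ≫ b)) : RepBySp a := by
  let γ : F ⟶ pullback (a ≫ b) b := pullback.lift (𝟙 F) a (Category.id_comp _)
  have hsnd : RepBySp (pullback.snd (a ≫ b) b) :=
    repBySp_of_isPullback (IsPullback.of_hasPullback (a ≫ b) b) hab
  have e : a = γ ≫ pullback.snd (a ≫ b) b := (pullback.lift_snd _ _ _).symm
  have sq : IsPullback a γ (pullback.diagonal b)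
      (pullback.map (a ≫ b) b b b a (𝟙 G) (𝟙 H) (by simp) (by simp)) := by
    refine ⟨⟨?_⟩, ⟨PullbackCone.IsLimit.mk _ (fun c => c.snd ≫ pullback.fst _ _) ?_ ?_ ?_⟩⟩
    · apply pullback.hom_ext <;> simp [γ, pullback.map, pullback.lift_fst, pullback.lift_fst_assoc, pullback.lift_snd]
    · intro c
      have := c.condition =≫ pullback.fst b b
      simp [pullback.map, pullback.lift_fst] at this
      simp [this, pullback.map, pullback.lift_fst]
    · intro c
      have h₁ := c.condition =≫ pullback.fst b b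
      have h₂ := c.condition =≫ pullback.snd b b
      simp [pullback.map, pullback.lift_fst, pullback.lift_snd] at h₁ h₂
      apply pullback.hom_ext
      · simp [γ, pullback.lift_fst]
      · simp [γ, pullback.lift_snd, ← h₂, h₁]
    · intro c m _ hm
      simp [← hm, γ, pullback.lift_fst]
  rw [e]
  exact repBySp_comp (repBySp_of_isPullback sq hΔ) hsnd

theorem repBySp_diag_iff : RepBySp (Limits.diag F) ↔
    ∀ (T : Over S) (ξ : (pyon S).obj T ⟶ F), RepBySp ξ := by
  constructor
  · intro h T ξ U η F' fst snd sq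
    have sq' := isPullback_diag_of_isPullback sq
    exact h (U := T ⨯ U) (prodComparison (pyon S) T U ≫ prod.map ξ η) (fst ≫ ξ)
      (prod.lift fst snd ≫ inv (prodComparison (pyon S) T U))
      (IsPullback.of_iso sq' (Iso.refl _) (Iso.refl _) (asIso (prodComparison (pyon S) T U)).symm
        (Iso.refl _) (by simp) (by simp) (by simp) (by simp))
  · intro h U g F' fst snd sq
    have hP := IsPullback.of_hasPullback (g ≫ prod.fst) (g ≫ prod.snd)
    have hA : IsAlgSpaceP _ := h U (g ≫ prod.fst) (g ≫ prod.snd) _ _ hP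
    obtain ⟨hAs, hA⟩ := hA
    have w₁ := sq.w =≫ prod.fst
    have w₂ := sq.w =≫ prod.snd
    simp only [Category.assoc, prod.lift_fst, prod.lift_snd, Category.comp_id] at w₁ w₂
    let γ : F' ⟶ pullback (g ≫ prod.fst) (g ≫ prod.snd) := hP.lift snd snd (by rw [← w₁, ← w₂])
    have sq' : IsPullback γ snd (prod.lift (pullback.fst _ _) (pullback.snd (g ≫ prod.fst) (g ≫ prod.snd)))
        (Limits.diag ((pyon S).obj U)) := by
      have hc : ∀ c : PullbackCone (prod.lift (pullback.fst _ _) (pullback.snd (g ≫ prod.fst) (g ≫ prod.snd)))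
          (Limits.diag ((pyon S).obj U)),
          c.fst ≫ pullback.fst _ _ = c.snd ∧ c.fst ≫ pullback.snd _ _ = c.snd := fun c => by
        have h₁ := c.condition =≫ prod.fst
        have h₂ := c.condition =≫ prod.snd
        simp only [Category.assoc, prod.lift_fst, prod.lift_snd, Category.comp_id] at h₁ h₂
        exact ⟨h₁, h₂⟩
      refine ⟨⟨?_⟩, ⟨PullbackCone.IsLimit.mk _ (fun c => sq.lift (c.snd ≫ g ≫ prod.fst) c.snd ?_) ?_ ?_ ?_⟩⟩
      · apply prod.hom_ext <;> simp [γ, prod.lift_fst, prod.lift_snd]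
      · apply prod.hom_ext
        · simp [prod.lift_fst]
        · have h3 : c.snd ≫ g ≫ prod.fst = c.snd ≫ g ≫ prod.snd := by
            conv_lhs => rw [← (hc c).1]
            conv_rhs => rw [← (hc c).2]
            simp only [Category.assoc, hP.w]
          simp [prod.lift_snd, h3]
      · intro c
        apply hP.hom_ext <;> simp [γ, (hc c).1, (hc c).2]
      · intro c; simp
      · intro c m _ hm
        apply sq.hom_ext
        · simp [← hm, w₁]
        · simp [hm]
    have sq'' := IsPullback.of_iso sq' (Iso.refl _) (Iso.refl _) (Iso.refl _)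
      (asIso (prodComparison (pyon S) U U)).symm
      (fst' := γ) (snd' := snd)
      (f' := prod.lift (pullback.fst _ _) (pullback.snd _ _) ≫ inv (prodComparison (pyon S) U U))
      (g' := (pyon S).map (Limits.diag U))
      (by simp) (by simp) (by simp)
      (by
        simp only [Iso.refl_hom, Category.id_comp, Iso.symm_hom, asIso_inv]
        rw [IsIso.comp_inv_eq]
        apply prod.hom_ext
        · simp [prodComparison, prod.lift_fst, ← Functor.map_comp]
        · simp [prodComparison, prod.lift_snd, ← Functor.map_comp])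
    have hS : Presheaf.IsSheaf (J S) F' :=
      AlgSp.isSheaf_of_isPullback (F := ⟨_, hAs⟩) (G := (yon S).obj (U ⨯ U)) (H := (yon S).obj U) sq''
    refine ⟨hS, isAlgSpace_of_isPullback (P := ⟨F', hS⟩) (X := ⟨_, hAs⟩) (Y := (yon S).obj U)
      (H := (yon S).obj (U ⨯ U)) (fst := ObjectProperty.homMk _) (snd := ObjectProperty.homMk _)
      (f := ObjectProperty.homMk _) (g := ObjectProperty.homMk _)
      (IsPullback.of_map_of_faithful (sheafToPresheaf (J S) (Type (u + 1))) sq'')
      (IsAlgSpace.yon_obj _).diag hA (IsAlgSpace.yon_obj U)⟩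

end Groth.AlgSpRep
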